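import Mathlib

/-!
Fpqc coverings are topological quotients, and open subsets descend along them.
-/

set_option autoImplicit false

universe w u

open CategoryTheory CategoryTheory.Limits AlgebraicGeometry Topology

namespace Groth.Agent.FpqcTopLib

variable {T : Scheme.{u}} (𝒰 : PreZeroHypercover.{w} T) [QuasiCompactCover 𝒰] [∀ i, Flat (𝒰.f i)]

theorem isOpen_of_preimage {s : Set T} (hs : ∀ i, IsOpen (𝒰.f i ⁻¹' s)) : IsOpen s := by
  rw [isOpen_iff_forall_mem_open]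
  intro y hy
  obtain ⟨_, ⟨V : T.Opens, (hV : IsAffineOpen V), rfl⟩, hyV, -⟩ :=
    T.isBasis_affineOpens.exists_subset_of_mem_open (Set.mem_univ y) isOpen_univ
  obtain ⟨n, idx, W, hW, hcov⟩ :=
    QuasiCompactCover.exists_isAffineOpen_of_isCompact 𝒰 (U := V) (IsAffineOpen.isCompact hV)
  have hle : ∀ i, Set.range ((W i).ι ≫ 𝒰.f (idx i)) ⊆ Set.range V.ι := fun i => by
    rintro _ ⟨z, rfl⟩
    rw [Scheme.Opens.range_ι]
    exact hcov.subset (Set.mem_iUnion.2 ⟨i, _, z.2, rfl⟩)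
  let t : ∀ i, (W i).toScheme ⟶ V.toScheme := fun i => IsOpenImmersion.lift V.ι _ (hle i)
  have ht : ∀ i, t i ≫ V.ι = (W i).ι ≫ 𝒰.f (idx i) := fun i => IsOpenImmersion.lift_fac _ _ _
  haveI : ∀ i, IsAffine (W i).toScheme := fun i => hW i
  haveI : IsAffine V.toScheme := hV
  haveI : ∀ i, Flat (t i) := fun i => by
    have hfl : Flat (t i ≫ V.ι) := by rw [ht]; infer_instance
    exact MorphismProperty.of_isPullback (P := @Flat)
      (IsPullback.of_vert_isIso_mono (fst := t i) (snd := 𝟙 _) (f := V.ι) (g := t i ≫ V.ι) ⟨by simp⟩).flip hfl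
  let p := Sigma.desc t
  haveI : Flat p := IsZariskiLocalAtSource.sigmaDesc (P := @Flat) inferInstance
  haveI : AlgebraicGeometry.Surjective p := ⟨fun z => by
    obtain ⟨i, x, hx, hxy⟩ := Set.mem_iUnion.1 (hcov.superset z.2)
    refine ⟨Sigma.ι (fun i => (W i).toScheme) i ⟨x, hx⟩, V.ι.isOpenEmbedding.injective ?_⟩
    refine Eq.trans ?_ hxy
    rw [← Scheme.Hom.comp_apply, ← Scheme.Hom.comp_apply, ← Category.assoc, Sigma.ι_desc, ht,
      Scheme.Hom.comp_apply]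
    rfl⟩
  haveI : AlgebraicGeometry.QuasiCompact p :=
    (HasAffineProperty.iff_of_isAffine (P := @AlgebraicGeometry.QuasiCompact)).mpr
      (inferInstance : CompactSpace (∐ fun i => (W i).toScheme : Scheme.{u}))
  refine ⟨⇑V.ι '' (⇑V.ι ⁻¹' s), Set.image_preimage_subset _ _, ?_, ⟨y, hyV⟩, hy, rfl⟩
  refine V.ι.isOpenEmbedding.isOpenMap _ ((Flat.isQuotientMap_of_surjective p).isOpen_preimage.1 ?_)
  rw [(sigmaOpenCover fun i => (W i).toScheme).isOpenCover_opensRange.isOpen_iff_inter]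
  intro (i : Fin n)
  rw [Scheme.Hom.coe_opensRange, ← Set.image_preimage_eq_inter_range]
  refine (Sigma.ι (fun i => (W i).toScheme) i).isOpenEmbedding.isOpenMap _ ?_
  have : ⇑(Sigma.ι (fun i => (W i).toScheme) i) ⁻¹' (⇑p ⁻¹' (⇑V.ι ⁻¹' s)) =
      ⇑((W i).ι) ⁻¹' (⇑(𝒰.f (idx i)) ⁻¹' s) := by
    ext z
    simp only [Set.mem_preimage, ← Scheme.Hom.comp_apply]
    rw [Category.assoc, show Sigma.ι (fun i => (W i).toScheme) i ≫ p ≫ V.ι = (W i).ι ≫ 𝒰.f (idx i) by
      rw [← Category.assoc, Sigma.ι_desc, ht]]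
  exact this ▸ (hs (idx i)).preimage (W i).ι.continuous

end Groth.Agent.FpqcTopLib
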